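import Cfsg.Agent.H509.WeakBlock
import Cfsg.Agent.OddHalf.MMOut.Row
import Cfsg.Agent.H383.W2.Core
import Cfsg.Agent.H383.W2.M22Fact

/-!
# S4095 at the prime 2: the row of `M22` (helper383)
-/

set_option autoImplicit false

namespace Cfsg.Agent.H383.W2

open Cfsg Subgroup
open Cfsg.Agent.OddHalf.MM (Nrm Cen El)

universe u

section key

variable {A : Type*} [Group A] [Finite A] {K SA V W P : Subgroup A} {z : A}

theorem odd_mem (hK : K.index = 2) {y : A} (hy : Odd (orderOf y)) : y ∈ K := by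
  obtain ⟨m, hm⟩ := hy
  have h1 := sq_mem_of_index_two hK y
  have h2 : y = (y ^ 2) ^ (m + 1) := by
    rw [← pow_mul, mul_add, mul_one, show 2 * m + 2 = (2 * m + 1) + 1 by rfl, ← hm, pow_succ, pow_orderOf_eq_one, one_mul]
  rw [h2]
  exact K.pow_mem h1 _

/-- the Baer–Suzuki argument in a subgroup `Y` of `A` -/
theorem core_in {b : A} (hK : K.index = 2)
    (hbad : ∀ y ∈ K, (b * y * b⁻¹)⁻¹ * y = 1 ∨ 2 ∣ orderOf ((b * y * b⁻¹)⁻¹ * y)) {Y : Subgroup A} (hb : b ∈ Y)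
    {N : Subgroup Y} (hNn : N.Normal) (hN : ∀ x ∈ N, x * x = 1) (hbb : (⟨b, hb⟩ : Y) * ⟨b, hb⟩ ∈ N) :
    ∃ M : Subgroup Y, M.Normal ∧ IsPGroup 2 M ∧ (⟨b, hb⟩ : Y) ∈ M := by
  refine mem_two_core (b := (⟨b, hb⟩ : Y)) ?_ hN hbb
  intro y hy
  have hyK : (y : A) ∈ K := odd_mem hK (by rw [Subgroup.orderOf_coe]; exact hy)
  rcases hbad y hyK with h | h
  · left
    exact Subtype.ext h
  · right
    rw [← Subgroup.orderOf_coe]
    exact h

theorem key (H : Cfsg.Agent.OddHalf.MMOut.Sheet K SA V W P z) {b : A} (hbb : b * b = z)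
    (hbad : ∀ y ∈ K, (b * y * b⁻¹)⁻¹ * y = 1 ∨ 2 ∣ orderOf ((b * y * b⁻¹)⁻¹ * y)) : False := by
  classical
  have hf2 : Fact (Nat.Prime 2) := ⟨Nat.prime_two⟩
  have hzz : z * z = 1 := H.elV z H.zV
  -- `z` is central in `SA`
  have hzc : ∀ s ∈ SA, s * z = z * s := by
    have : Nontrivial SA := by
      rw [← Finite.one_lt_card_iff_nontrivial, H.cardSA]
      norm_num
    have h1 := H.two.center_nontrivial
    obtain ⟨y, hy⟩ := exists_ne (1 : center SA)
    have hyc := y.2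
    rw [mem_center_iff] at hyc
    have h2 : ∀ s ∈ SA, s * ((y : SA) : A) = ((y : SA) : A) * s := fun s hs =>
      congrArg Subtype.val (hyc ⟨s, hs⟩)
    rcases H.cen _ (y : SA).2 h2 with h3 | h3
    · exact absurd (Subtype.ext (Subtype.ext h3)) hy
    · rw [h3] at h2
      exact h2
  -- `b ∈ SA`
  have hbSA : b ∈ SA := by
    set Y := centralizer ({z} : Set A) with hY
    have hbY : b ∈ Y := by
      rw [hY, mem_centralizer_singleton_iff, ← hbb, mul_assoc]
    have hzY : z ∈ Y := mem_centralizer_singleton_iff.2 rfl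
    set N : Subgroup Y := zpowers (⟨z, hzY⟩ : Y) with hNdef
    have hNn : N.Normal := by
      refine ⟨?_⟩
      rintro _ ⟨i, rfl⟩ g
      have h1 : Commute g (⟨z, hzY⟩ : Y) := Subtype.ext (mem_centralizer_singleton_iff.1 g.2)
      have h2 : g * (⟨z, hzY⟩ : Y) ^ i * g⁻¹ = (⟨z, hzY⟩ : Y) ^ i := by
        rw [(h1.zpow_right i).eq, mul_inv_cancel_right]
      exact ⟨i, h2.symm⟩
    have hN : ∀ x ∈ N, x * x = 1 := by
      rintro _ ⟨i, rfl⟩
      change (⟨z, hzY⟩ : Y) ^ i * (⟨z, hzY⟩ : Y) ^ i = 1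
      rw [← Commute.mul_zpow (Commute.refl _)]
      have h1 : (⟨z, hzY⟩ : Y) * ⟨z, hzY⟩ = 1 := Subtype.ext hzz
      rw [h1, one_zpow]
    obtain ⟨M, hMn, hM2, hbM⟩ := core_in H.idx hbad hbY hNn hN (by
      have h1 : (⟨b, hbY⟩ : Y) * ⟨b, hbY⟩ = ⟨z, hzY⟩ := Subtype.ext hbb
      rw [h1]
      exact mem_zpowers _)
    have hSY : SA ≤ Y := fun s hs => mem_centralizer_singleton_iff.2 (hzc s hs)
    have h1 : IsPGroup 2 (SA.subgroupOf Y) := H.two.of_equiv (Subgroup.subgroupOfEquivOfLe hSY).symm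
    have h2 : IsPGroup 2 (SA.subgroupOf Y ⊔ M : Subgroup Y) := IsPGroup.to_sup_of_normal_right h1 hM2
    have h3 : SA ≤ (SA.subgroupOf Y ⊔ M : Subgroup Y).map Y.subtype := by
      intro s hs
      exact ⟨⟨s, hSY hs⟩, (le_sup_left : SA.subgroupOf Y ≤ _) hs, rfl⟩
    have h4 := H.max _ (h2.map Y.subtype) h3
    rw [← h4]
    exact ⟨⟨b, hbY⟩, (le_sup_right : M ≤ _) hbM, rfl⟩
  -- `b` normalizes `V`
  set Y := normalizer (V : Set A) with hY
  have hnorm : ∀ g : A, Nrm g V ↔ g ∈ Y := by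
    intro g
    rw [hY, mem_normalizer_iff]
    constructor
    · intro h x
      exact (h x).symm
    · intro h x
      exact (h x).symm
  have hbY : b ∈ Y := (hnorm b).1 (H.nV b hbSA)
  have hNn : (V.subgroupOf Y).Normal := by
    refine ⟨fun x hx g => ?_⟩
    exact ((hnorm g).2 g.2 x).2 hx
  have hN : ∀ x ∈ V.subgroupOf Y, x * x = 1 := fun x hx => Subtype.ext (H.elV x hx)
  obtain ⟨M, hMn, hM2, hbM⟩ := core_in H.idx hbad hbY hNn hN (by
    change b * b ∈ V
    rw [hbb]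
    exact H.zV)
  -- `M` fixes a nontrivial element of `V`
  obtain ⟨v, hvV, hv1, hvM⟩ : ∃ v ∈ V, v ≠ 1 ∧ ∀ m ∈ M, (m : A) * v = v * m := by
    let act : MulAction M (V.subgroupOf Y) :=
      MulAction.compHom _ ((MulAut.conjNormal : Y →* MulAut (V.subgroupOf Y)).comp M.subtype)
    have hVY : V ≤ Y := by
      intro x hx
      rw [← hnorm]
      intro y
      constructor
      · intro h
        have h1 := V.mul_mem (V.mul_mem (V.inv_mem hx) h) hx
        have h2 : x⁻¹ * (x * y * x⁻¹) * x = y := by group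
        rwa [h2] at h1
      · intro h
        exact V.mul_mem (V.mul_mem hx h) (V.inv_mem hx)
    have hcard : Nat.card (V.subgroupOf Y) = 16 := by
      rw [← H.cardV]
      exact Nat.card_congr (Subgroup.subgroupOfEquivOfLe hVY).toEquiv
    have h1 : (1 : V.subgroupOf Y) ∈ MulAction.fixedPoints M (V.subgroupOf Y) := by
      intro m
      change (MulAut.conjNormal (m : Y) : MulAut (V.subgroupOf Y)) 1 = 1
      rw [map_one]
    obtain ⟨w, hw, hw1⟩ := hM2.exists_fixed_point_of_prime_dvd_card_of_fixed_point (V.subgroupOf Y)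
      (by rw [hcard]; norm_num) h1
    refine ⟨((w : Y) : A), w.2, fun h => hw1 (Subtype.ext (Subtype.ext h.symm)), fun m hm => ?_⟩
    have h2 := hw ⟨m, hm⟩
    have h3 : (MulAut.conjNormal m : MulAut (V.subgroupOf Y)) w = w := h2
    have h4 := congrArg (fun t : V.subgroupOf Y => ((t : Y) : A)) h3
    simp only [MulAut.conjNormal_apply] at h4
    have h5 : (m : A) * ((w : Y) : A) * (m : A)⁻¹ = ((w : Y) : A) := h4
    rw [mul_inv_eq_iff_eq_mul] at h5
    exact h5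
  -- so `b` centralizes `V`
  have hbC : Cen b V := by
    intro x hx
    by_cases hx1 : x = 1
    · rw [hx1, mul_one, one_mul]
    obtain ⟨k, hk, hkv⟩ := H.trV v hvV hv1
    obtain ⟨l, hl, hlx⟩ := H.trV x hx hx1
    -- `g = l k⁻¹` maps `v` to `x`
    set g : Y := ⟨l, (hnorm l).1 hl⟩ * ⟨k, (hnorm k).1 hk⟩⁻¹ with hg
    have hgx : (g : A) * v * (g : A)⁻¹ = x := by
      have h1 : (g : A) = l * k⁻¹ := rfl
      rw [h1, ← hkv, ← hlx]
      group
    have h1 := hMn.conj_mem _ hbM g⁻¹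
    have h2 := hvM _ h1
    have h3 : (((g⁻¹ * ⟨b, hbY⟩ * g⁻¹⁻¹ : Y)) : A) = (g : A)⁻¹ * b * (g : A) := by
      rw [inv_inv]
      rfl
    rw [h3] at h2
    rw [← hgx]
    calc b * ((g : A) * v * (g : A)⁻¹) = (g : A) * ((g : A)⁻¹ * b * (g : A) * v) * (g : A)⁻¹ := by group
      _ = (g : A) * (v * ((g : A)⁻¹ * b * (g : A))) * (g : A)⁻¹ := by rw [h2]
      _ = (g : A) * v * (g : A)⁻¹ * b := by group
  have h1 := H.elV b (H.CV b hbC)
  rw [hbb] at h1
  exact H.z1 h1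

end key

open Cfsg.Agent.H509.Weak Cfsg.Agent.H516

/-- `FactA` for `M22` -/
theorem factA {L : Type u} [Group L] (h : Cfsg.Spor.IsoM22 L) : FactA L := by
  obtain ⟨e⟩ := h
  obtain ⟨Q, hQ⟩ := q55
  have hQ' : Nat.card (Q.comap e.toMonoidHom) = 55 := by
    rw [← hQ]
    exact Nat.card_congr (e.toEquiv.subtypeEquiv fun _ => Iff.rfl)
  refine ⟨Q.comap e.toMonoidHom, by rw [hQ']; decide, fun w hw hw2 => Or.inr ?_⟩
  rw [hQ', Cfsg.Agent.H968.TwoTool.card_cent_congr e]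
  exact cent_lt (e w) (by rw [MulEquiv.orderOf_eq]; exact hw) (by rw [MulEquiv.orderOf_eq]; exact hw2)

/-- **The row of `M22` at the prime 2.** -/
theorem row {L : Type u} [Group L] [Finite L] (h : Cfsg.Spor.IsoM22 L) (B : Cfsg.Agent.H509.Weak.Base L) :
    Cfsg.Agent.H516.Row 2 L := by
  rw [row_iff]
  intro a ha
  by_contra hne
  have W : Wk a := { B with bad := ha, ne := hne }
  have hc := W.center
  obtain ⟨n, hn⟩ := W.two_of_factA (factA h)
  obtain ⟨s, hs⟩ := W.sq a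
  have hs1 : s ≠ 1 := by
    rintro rfl
    rw [map_one] at hs
    exact W.sq_ne_one hs
  -- `s` is an involution
  have hss : s * s = 1 := by
    obtain ⟨e⟩ := h
    by_contra hss
    have h1 : s ^ 2 ^ n = 1 := by
      apply conj_injective hc
      rw [map_pow, ← hs, map_one, ← pow_two, ← pow_mul, mul_comm, pow_mul, hn, one_pow]
    have h2 : (e s) ^ 2 ^ n = 1 := by rw [← map_pow, h1, map_one]
    have h3 : e s * e s ≠ 1 := by
      intro h3
      rw [← map_mul, MulEquiv.map_eq_one_iff] at h3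
      exact hss h3
    have h4 := cent_lt_two h2 h3
    rw [← Cfsg.Agent.H968.TwoTool.card_cent_congr e] at h4
    obtain ⟨Q, hQ⟩ := q55
    have hQ' : Nat.card (Q.comap e.toMonoidHom) = 55 := by
      rw [← hQ]
      exact Nat.card_congr (e.toEquiv.subtypeEquiv fun _ => Iff.rfl)
    have h5 := W.card_le (Q := Q.comap e.toMonoidHom) (by rw [hQ']; decide)
    have h6 : fixedSubgroup a ≤ centralizer ({s} : Set L) := by
      intro x hx
      have h7 : a x = x := hx
      have h8 : (a * a) x = x := by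
        change a (a x) = x
        rw [h7, h7]
      rw [hs, MulAut.conj_apply, mul_inv_eq_iff_eq_mul] at h8
      rw [mem_centralizer_singleton_iff]
      exact h8.symm
    have h7 := card_le_of_le h6
    omega
  -- in the automorphism group
  have hfin : Finite (MulAut L) := Finite.of_injective (fun f : MulAut L => (f : L → L)) DFunLike.coe_injective
  obtain ⟨SA, V, W', P, z, H⟩ := Cfsg.Agent.KFacts.MM.OutEnd.sheet h
  have hRn : ((MulAut.conj : L →* MulAut L).range).Normal := by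
    refine ⟨?_⟩
    rintro _ ⟨t, rfl⟩ b
    exact ⟨b t, (aut_conj b t).symm⟩
  have hbad : ∀ y ∈ (MulAut.conj : L →* MulAut L).range,
      (a * y * a⁻¹)⁻¹ * y = 1 ∨ 2 ∣ orderOf ((a * y * a⁻¹)⁻¹ * y) := by
    rintro _ ⟨t, rfl⟩
    rw [aut_conj, ← map_inv, ← map_mul, orderOf_injective _ (conj_injective hc)]
    rcases ha t with h1 | h1
    · left
      rw [h1, map_one]
    · exact Or.inr h1
  obtain ⟨g, hg⟩ := H.inv (a * a) ⟨s, hs.symm⟩ (by rw [hs, ← map_mul, hss, map_one]) W.sq_ne_one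
  refine key H (b := g⁻¹ * a * g) ?_ ?_
  · calc g⁻¹ * a * g * (g⁻¹ * a * g) = g⁻¹ * (a * a) * g := by group
      _ = g⁻¹ * (g * z * g⁻¹) * g := by rw [hg]
      _ = z := by group
  · intro y hy
    have h1 : (g⁻¹ * a * g * y * (g⁻¹ * a * g)⁻¹)⁻¹ * y =
        g⁻¹ * ((a * (g * y * g⁻¹) * a⁻¹)⁻¹ * (g * y * g⁻¹)) * g⁻¹⁻¹ := by group
    rw [h1]
    have h2 : orderOf (g⁻¹ * ((a * (g * y * g⁻¹) * a⁻¹)⁻¹ * (g * y * g⁻¹)) * g⁻¹⁻¹) =
        orderOf ((a * (g * y * g⁻¹) * a⁻¹)⁻¹ * (g * y * g⁻¹)) :=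
      MulEquiv.orderOf_eq (MulAut.conj g⁻¹) _
    rw [h2]
    rcases hbad (g * y * g⁻¹) (hRn.conj_mem _ hy g) with h3 | h3
    · left
      rw [h3]
      group
    · exact Or.inr h3

end Cfsg.Agent.H383.W2
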