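import Cfsg.Agent.OddHalf.MM.Sheet
import Cfsg.Agent.H383.Dg.RedA

/-!
# Centralizers of elements of order at least 4 in a Sylow 2-subgroup of `M22`, from the sheet (helper383)
-/

set_option autoImplicit false

namespace Cfsg.Agent.H383.W2

open Subgroup Cfsg.Agent.OddHalf.MM

theorem el_comm {K : Type*} [Group K] {V : Subgroup K} (hV : El V) {x y : K} (hx : x ∈ V) (hy : y ∈ V) : x * y = y * x := by
  have h4 := hV _ (V.mul_mem hx hy)
  have h5 : x⁻¹ = x := inv_eq_of_mul_eq_one_left (hV x hx)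
  have h6 : y⁻¹ = y := inv_eq_of_mul_eq_one_left (hV y hy)
  have h7 : (x * y)⁻¹ = x * y := inv_eq_of_mul_eq_one_left h4
  rw [mul_inv_rev, h5, h6] at h7
  exact h7.symm

/-- an element of `SK` centralizing a subgroup of order at least 64 has order at most 2 -/
theorem sq_eq_one_of_cent {K : Type*} [Group K] [Finite K] {SK V W : Subgroup K} {z c : K} (H : Sheet SK V W z c)
    (h128 : Nat.card SK = 128) {s : K} {P : Subgroup K} (hP : P ≤ SK) (h64 : 64 ≤ Nat.card P) (hs : s ∈ SK)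
    (hc : ∀ x ∈ P, x * s = s * x) : s * s = 1 := by
  classical
  have hX : 8 ≤ Nat.card (P ⊓ V : Subgroup K) := by
    have h1 : V.relIndex P ≤ V.relIndex SK := relIndex_le_of_le_right hP (by
      rw [relIndex]
      exact index_ne_zero_of_finite)
    have h2 := Dg.relIndex_mul_card' H.VS
    have h3 : V.relIndex P * Nat.card (P ⊓ V : Subgroup K) = Nat.card P := by
      rw [← inf_relIndex_left]
      exact Dg.relIndex_mul_card' inf_le_left
    rw [h128, H.cardV] at h2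
    have h4 : V.relIndex SK = 8 := by omega
    rw [h4] at h1
    have h5 : Nat.card P ≤ 8 * Nat.card (P ⊓ V : Subgroup K) := by
      rw [← h3]
      exact Nat.mul_le_mul_right _ h1
    omega
  obtain ⟨v1, hv1, hv1W⟩ : ∃ v ∈ P ⊓ V, v ∉ W := by
    by_contra hcon
    push Not at hcon
    have h1 : P ⊓ V ≤ V ⊓ W := fun x hx => ⟨hx.2, hcon x hx⟩
    have h2 := card_le_of_le h1
    rw [H.cardVW] at h2
    omega
  obtain ⟨v, hv, w, hw, hs' | hs'⟩ := H.gen s hs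
  · have h1 := hc v1 hv1.1
    rw [hs', ← mul_assoc, el_comm H.elV hv1.2 hv, mul_assoc, mul_assoc] at h1
    have h2 := mul_left_cancel h1
    have h3 : w ∈ V := H.cVW v1 hv1.2 hv1W w hw h2
    rw [hs']
    exact H.elV _ (V.mul_mem hv h3)
  · exfalso
    have hcV : ∀ x, c * x * c⁻¹ ∈ V ↔ x ∈ V := H.nV c H.cS
    have hcW : ∀ x, c * x * c⁻¹ ∈ W ↔ x ∈ W := H.nW c H.cS
    let U : Subgroup K :=
      { carrier := {y | y ∈ V ∧ c * y * c⁻¹ * y⁻¹ ∈ W}
        one_mem' := ⟨V.one_mem, by simp [W.one_mem]⟩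
        mul_mem' := by
          rintro y y' ⟨hy, hy1⟩ ⟨hy', hy1'⟩
          refine ⟨V.mul_mem hy hy', ?_⟩
          have h1 : c * y' * c⁻¹ * y'⁻¹ ∈ V := V.mul_mem ((hcV y').2 hy') (V.inv_mem hy')
          have h2 : (c * y * c⁻¹) * (c * y' * c⁻¹ * y'⁻¹) = (c * y' * c⁻¹ * y'⁻¹) * (c * y * c⁻¹) :=
            el_comm H.elV ((hcV y).2 hy) h1
          have h3 : c * (y * y') * c⁻¹ * (y * y')⁻¹ = (c * y' * c⁻¹ * y'⁻¹) * (c * y * c⁻¹ * y⁻¹) := by
            calc c * (y * y') * c⁻¹ * (y * y')⁻¹ = ((c * y * c⁻¹) * (c * y' * c⁻¹ * y'⁻¹)) * y⁻¹ := by group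
              _ = ((c * y' * c⁻¹ * y'⁻¹) * (c * y * c⁻¹)) * y⁻¹ := by rw [h2]
              _ = (c * y' * c⁻¹ * y'⁻¹) * (c * y * c⁻¹ * y⁻¹) := by group
          rw [h3]
          exact W.mul_mem hy1' hy1
        inv_mem' := by
          rintro y ⟨hy, hy1⟩
          have h1 : y⁻¹ = y := inv_eq_of_mul_eq_one_left (H.elV y hy)
          rw [h1]
          exact ⟨hy, hy1⟩ }
    have hUV : U ≤ V := fun y hy => hy.1
    obtain ⟨v2, hv2, hv2'⟩ := H.cV
    have hU8 : Nat.card U ≤ 8 := by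
      obtain ⟨k, hk⟩ := card_dvd_of_le hUV
      rw [H.cardV] at hk
      have hk1 : k ≠ 1 := by
        rintro rfl
        have h1 : U = V := eq_of_le_of_card_ge hUV (by rw [H.cardV]; omega)
        rw [← h1] at hv2
        exact hv2' hv2.2
      have hk0 : k ≠ 0 := by
        rintro rfl
        omega
      have h2 : Nat.card U * 2 ≤ Nat.card U * k := Nat.mul_le_mul_left _ (by omega)
      omega
    have hXU : P ⊓ V ≤ U := by
      rintro y ⟨hyP, hyV⟩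
      refine ⟨hyV, ?_⟩
      have h1 := hc y hyP
      have hy' : c * y * c⁻¹ ∈ V := (hcV y).2 hyV
      have hwy : w * (c * y * c⁻¹) * w⁻¹ ∈ V := (H.nV w (H.WS hw) _).2 hy'
      have h2 : v * (w * (c * y * c⁻¹) * w⁻¹) = (w * (c * y * c⁻¹) * w⁻¹) * v := el_comm H.elV hv hwy
      have h3 : w * (c * y * c⁻¹) * w⁻¹ = y := by
        calc w * (c * y * c⁻¹) * w⁻¹ = (w * (c * y * c⁻¹) * w⁻¹) * v * v⁻¹ := by group
          _ = v * (w * (c * y * c⁻¹) * w⁻¹) * v⁻¹ := by rw [h2]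
          _ = (v * w * c) * y * (v * w * c)⁻¹ := by group
          _ = s * y * s⁻¹ := by rw [← hs']
          _ = y := by rw [← h1]; group
      have h4 : c * y * c⁻¹ * y⁻¹ = ((c * y * c⁻¹) * w * (c * y * c⁻¹)⁻¹) * w⁻¹ := by
        have h5 : y⁻¹ = (w * (c * y * c⁻¹) * w⁻¹)⁻¹ := by rw [h3]
        calc c * y * c⁻¹ * y⁻¹ = c * y * c⁻¹ * (w * (c * y * c⁻¹) * w⁻¹)⁻¹ := by rw [← h5]
          _ = ((c * y * c⁻¹) * w * (c * y * c⁻¹)⁻¹) * w⁻¹ := by group
      rw [h4]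
      exact W.mul_mem ((H.nW _ (H.VS hy') w).2 hw) (W.inv_mem hw)
    have hXU' : P ⊓ V = U := eq_of_le_of_card_ge hXU (hU8.trans hX)
    obtain ⟨x0, hx0V, hx0W, hx0⟩ := H.c0
    have hx0U : x0 ∈ U := ⟨hx0V, W.mul_mem ((hcW x0).2 hx0W) (W.inv_mem hx0W)⟩
    rw [← hXU'] at hx0U
    have h1 := hc x0 hx0U.1
    have hcx0V : c * x0 * c⁻¹ ∈ V := (hcV x0).2 hx0V
    have hcx0W : c * x0 * c⁻¹ ∈ W := (hcW x0).2 hx0W
    have h2 : w * (c * x0 * c⁻¹) = (c * x0 * c⁻¹) * w := el_comm H.elW hw hcx0W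
    have h3 : v * (c * x0 * c⁻¹) = (c * x0 * c⁻¹) * v := el_comm H.elV hv hcx0V
    apply hx0
    have h4 : c * x0 * c⁻¹ = x0 := by
      calc c * x0 * c⁻¹ = (c * x0 * c⁻¹) * v * v⁻¹ := by group
        _ = v * (c * x0 * c⁻¹) * v⁻¹ := by rw [h3]
        _ = v * ((c * x0 * c⁻¹) * w) * w⁻¹ * v⁻¹ := by group
        _ = v * (w * (c * x0 * c⁻¹)) * w⁻¹ * v⁻¹ := by rw [h2]
        _ = (v * w * c) * x0 * (v * w * c)⁻¹ := by group
        _ = s * x0 * s⁻¹ := by rw [← hs']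
        _ = x0 := by rw [← h1]; group
    calc c * x0 = c * x0 * c⁻¹ * c := by group
      _ = x0 * c := by rw [h4]

end Cfsg.Agent.H383.W2
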